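import Mathlib

set_option autoImplicit false
set_option backward.isDefEq.respectTransparency.types false
set_option synthInstance.maxHeartbeats 400000
set_option maxHeartbeats 4000000
set_option linter.style.haveILetI false
set_option linter.unusedSectionVars false
set_option linter.unusedVariables false
set_option linter.unusedSimpArgs false
set_option linter.unnecessarySimpa false

/-!
# Non-free locus of a module presented by one relation in a free module of rank two
-/

namespace Groth.Agent.Helper2.OmegaNotFree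

open IsLocalRing

theorem mk_add_same {R : Type*} [CommRing R] {S : Submonoid R} {N : Type*} [AddCommGroup N]
    [Module R N] (m1 m2 : N) (s : S) :
    LocalizedModule.mk (m1 + m2) s = LocalizedModule.mk m1 s + LocalizedModule.mk m2 s := by
  rw [LocalizedModule.mk_add_mk, ← smul_add, LocalizedModule.mk_cancel_common_left]

section Abstract

variable {A : Type*} [CommRing A] [IsLocalRing A]
variable {F₁ F₂ M : Type*} [AddCommGroup F₁] [Module A F₁] [AddCommGroup F₂] [Module A F₂]
  [AddCommGroup M] [Module A M]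

/-- If some functional takes the value `1` on the relation then the quotient is free. -/
theorem free_of_unimodular (f : F₁ →ₗ[A] F₂) (g : F₂ →ₗ[A] M) (hex : Function.Exact f g)
    (hg : Function.Surjective g) [Module.Free A F₂] [Module.Finite A F₂]
    (e : F₁) (he : ∀ x : F₁, ∃ r : A, x = r • e)
    (φ : F₂ →ₗ[A] A) (hφ : φ (f e) = 1) : Module.Free A M := by
  obtain ⟨ψ, hψ⟩ : ∃ ψ : F₂ →ₗ[A] F₂, ψ = LinearMap.id -
      (LinearMap.toSpanSingleton A F₂ (f e)).comp φ := ⟨_, rfl⟩
  have hψa : ∀ w, ψ w = w - φ w • f e := by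
    intro w
    rw [hψ]
    simp [LinearMap.toSpanSingleton_apply]
  have hgv : g (f e) = 0 := (hex (f e)).mpr ⟨e, rfl⟩
  have hker : LinearMap.ker g ≤ LinearMap.ker ψ := by
    intro w hw
    rw [LinearMap.mem_ker] at hw ⊢
    obtain ⟨x, rfl⟩ := (hex w).mp hw
    obtain ⟨r, rfl⟩ := he x
    rw [hψa, map_smul, map_smul, hφ, smul_eq_mul, mul_one, sub_self]
  obtain ⟨s, hs⟩ : ∃ s : M →ₗ[A] F₂, s = ((LinearMap.ker g).liftQ ψ hker).comp
      (g.quotKerEquivOfSurjective hg).symm.toLinearMap := ⟨_, rfl⟩
  have hsg : ∀ w, s (g w) = ψ w := by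
    intro w
    have h1 : (g.quotKerEquivOfSurjective hg).symm (g w) = Submodule.Quotient.mk w := by
      rw [LinearEquiv.symm_apply_eq]
      rfl
    rw [hs, LinearMap.comp_apply, LinearEquiv.coe_coe, h1, Submodule.liftQ_apply]
  have hgs : g.comp s = LinearMap.id := by
    ext m
    obtain ⟨w, rfl⟩ := hg m
    rw [LinearMap.comp_apply, hsg, hψa, map_sub, map_smul, hgv, smul_zero, sub_zero,
      LinearMap.id_apply]
  haveI : Module.Projective A M := Module.Projective.of_split s g hgs
  haveI : Module.Finite A M := Module.Finite.of_surjective g hg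
  exact Module.free_of_flat_of_isLocalRing

variable [IsDomain A] [IsNoetherianRing A]

/-- If the relation vanishes at `Q` and `M_Q` is free then the relation is zero. -/
theorem rel_eq_zero_of_free_localized (f : F₁ →ₗ[A] F₂) (g : F₂ →ₗ[A] M)
    (hex : Function.Exact f g) (hg : Function.Surjective g)
    (b : Module.Basis (Fin 2) A F₂)
    (e : F₁) (he : ∀ x : F₁, ∃ r : A, x = r • e)
    (Q : Ideal A) [Q.IsPrime] (h0 : b.repr (f e) 0 ∈ Q) (h1 : b.repr (f e) 1 ∈ Q)
    (hfree : Module.Free (Localization.AtPrime Q) (LocalizedModule Q.primeCompl M)) :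
    f e = 0 := by
  haveI : Module.Free A F₂ := Module.Free.of_basis b
  haveI : Module.Finite A F₂ := Module.Finite.of_basis b
  obtain ⟨g', hg'⟩ : ∃ g' : LocalizedModule Q.primeCompl F₂ →ₗ[Localization.AtPrime Q]
      LocalizedModule Q.primeCompl M, g' = LocalizedModule.map Q.primeCompl g := ⟨_, rfl⟩
  have hg's : Function.Surjective g' := by
    rw [hg']
    exact LocalizedModule.map_surjective _ g hg
  have hv : f e = b.repr (f e) 0 • b 0 + b.repr (f e) 1 • b 1 := by
    conv_lhs => rw [← b.sum_repr (f e)]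
    rw [Fin.sum_univ_two]
  -- the kernel of g' lies in 𝔮 • ⊤
  have hK : LinearMap.ker g' ≤ (maximalIdeal (Localization.AtPrime Q)) •
      (⊤ : Submodule (Localization.AtPrime Q) (LocalizedModule Q.primeCompl F₂)) := by
    intro y hy
    rw [LinearMap.mem_ker] at hy
    induction y using LocalizedModule.induction_on with
    | h w s =>
      rw [hg', LocalizedModule.map_mk, ← LocalizedModule.zero_mk s, LocalizedModule.mk_eq] at hy
      obtain ⟨u, hu⟩ := hy
      rw [smul_zero, smul_zero] at hu
      have hu' : g ((u * s : Q.primeCompl) • w) = 0 := by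
        rw [Submonoid.smul_def, map_smul, Submonoid.coe_mul, mul_smul]
        exact hu
      obtain ⟨x, hx⟩ := (hex _).mp hu'
      obtain ⟨r, rfl⟩ := he x
      have e1 : LocalizedModule.mk w s =
          LocalizedModule.mk ((u * s : Q.primeCompl) • w) ((u * s) * s) :=
        (LocalizedModule.mk_cancel_common_left (u * s) s w).symm
      rw [e1, ← hx, map_smul, hv, smul_add, smul_smul, smul_smul, mk_add_same]
      refine Submodule.add_mem _ ?_ ?_
      · have e2 : LocalizedModule.mk ((r * b.repr (f e) 0) • b 0) ((u * s) * s) =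
            algebraMap A (Localization.AtPrime Q) (b.repr (f e) 0) •
              LocalizedModule.mk (r • b 0) ((u * s) * s) := by
          rw [algebraMap_smul, LocalizedModule.smul'_mk, smul_smul, mul_comm]
        rw [e2]
        exact Submodule.smul_mem_smul
          ((IsLocalization.AtPrime.to_map_mem_maximal_iff _ Q _).mpr h0) Submodule.mem_top
      · have e2 : LocalizedModule.mk ((r * b.repr (f e) 1) • b 1) ((u * s) * s) =
            algebraMap A (Localization.AtPrime Q) (b.repr (f e) 1) •
              LocalizedModule.mk (r • b 1) ((u * s) * s) := by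
          rw [algebraMap_smul, LocalizedModule.smul'_mk, smul_smul, mul_comm]
        rw [e2]
        exact Submodule.smul_mem_smul
          ((IsLocalization.AtPrime.to_map_mem_maximal_iff _ Q _).mpr h1) Submodule.mem_top
  -- section of g'
  haveI := hfree
  obtain ⟨σ, hσ⟩ := Module.projective_lifting_property g' LinearMap.id hg's
  obtain ⟨π, hπ⟩ : ∃ π : LocalizedModule Q.primeCompl F₂ →ₗ[Localization.AtPrime Q]
      LocalizedModule Q.primeCompl F₂, π = LinearMap.id - σ.comp g' := ⟨_, rfl⟩
  have hπK : ∀ y, π y ∈ LinearMap.ker g' := by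
    intro y
    rw [LinearMap.mem_ker, hπ, LinearMap.sub_apply, map_sub, LinearMap.id_apply,
      LinearMap.comp_apply, ← LinearMap.comp_apply g' σ, hσ, LinearMap.id_apply, sub_self]
  have hπid : ∀ y ∈ LinearMap.ker g', π y = y := by
    intro y hy
    rw [LinearMap.mem_ker] at hy
    rw [hπ, LinearMap.sub_apply, LinearMap.id_apply, LinearMap.comp_apply, hy, map_zero, sub_zero]
  have hKK : LinearMap.ker g' ≤ (maximalIdeal (Localization.AtPrime Q)) • LinearMap.ker g' := by
    intro y hy
    have h2 : π y ∈ Submodule.map π ((maximalIdeal (Localization.AtPrime Q)) •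
        (⊤ : Submodule (Localization.AtPrime Q) (LocalizedModule Q.primeCompl F₂))) :=
      Submodule.mem_map_of_mem (hK hy)
    rw [Submodule.map_smul'', hπid y hy] at h2
    refine Submodule.smul_mono le_rfl ?_ h2
    rintro z ⟨w, -, rfl⟩
    exact hπK w
  haveI : IsNoetherianRing (Localization.AtPrime Q) :=
    IsLocalization.isNoetherianRing Q.primeCompl _ inferInstance
  haveI : Module.Finite (Localization.AtPrime Q) (LocalizedModule Q.primeCompl F₂) :=
    Module.Finite.of_isLocalizedModule Q.primeCompl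
      (LocalizedModule.mkLinearMap Q.primeCompl F₂)
  have hKbot : LinearMap.ker g' = ⊥ :=
    Submodule.eq_bot_of_le_smul_of_le_jacobson_bot _ _ (IsNoetherian.noetherian _) hKK
      (IsLocalRing.maximalIdeal_le_jacobson _)
  have hgv : g (f e) = 0 := (hex (f e)).mpr ⟨e, rfl⟩
  have hmem : LocalizedModule.mk (f e) (1 : Q.primeCompl) ∈ LinearMap.ker g' := by
    rw [LinearMap.mem_ker, hg', LocalizedModule.map_mk, hgv, LocalizedModule.zero_mk]
  rw [hKbot, Submodule.mem_bot, ← LocalizedModule.zero_mk (1 : Q.primeCompl),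
    LocalizedModule.mk_eq] at hmem
  obtain ⟨u, hu⟩ := hmem
  rw [one_smul, smul_zero, smul_zero] at hu
  have hu0 : (u : A) ≠ 0 := fun h => u.2 (h ▸ Q.zero_mem)
  have hu2 : (u : A) • f e = 0 := hu
  have hc : ∀ i, b.repr (f e) i = 0 := by
    intro i
    have := congrArg (fun z => b.repr z i) hu2
    simp only [map_smul, Finsupp.smul_apply, smul_eq_mul, map_zero, Finsupp.zero_apply] at this
    exact (mul_eq_zero.mp this).resolve_left hu0
  rw [hv, hc 0, hc 1, zero_smul, zero_smul, add_zero]

theorem exists_prime_not_free (hdim : ringKrullDim A = 3)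
    (f : F₁ →ₗ[A] F₂) (g : F₂ →ₗ[A] M) (hex : Function.Exact f g) (hg : Function.Surjective g)
    (b : Module.Basis (Fin 2) A F₂) (b₁ : Module.Basis (Fin 1) A F₁)
    (hm : ¬ Module.Free A M) :
    ∃ Q : PrimeSpectrum A, Q.asIdeal ≠ maximalIdeal A ∧
      ¬ Module.Free (Localization.AtPrime Q.asIdeal)
        (LocalizedModule Q.asIdeal.primeCompl M) := by
  classical
  haveI : Module.Free A F₂ := Module.Free.of_basis b
  haveI : Module.Finite A F₂ := Module.Finite.of_basis b
  obtain ⟨e, he0⟩ : ∃ e : F₁, e = b₁ 0 := ⟨_, rfl⟩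
  have he : ∀ x : F₁, ∃ r : A, x = r • e := by
    intro x
    refine ⟨b₁.repr x 0, ?_⟩
    conv_lhs => rw [← b₁.sum_repr x]
    rw [Fin.sum_univ_one, he0]
  have hv : f e = b.repr (f e) 0 • b 0 + b.repr (f e) 1 • b 1 := by
    conv_lhs => rw [← b.sum_repr (f e)]
    rw [Fin.sum_univ_two]
  have hfe : f e ≠ 0 := by
    intro h
    apply hm
    have hf0 : ∀ x, f x = 0 := by
      intro x
      obtain ⟨r, rfl⟩ := he x
      rw [map_smul, h, smul_zero]
    have hinj : Function.Injective g := by
      rw [← LinearMap.ker_eq_bot, eq_bot_iff]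
      intro w hw
      obtain ⟨x, rfl⟩ := (hex w).mp hw
      rw [hf0]
      exact Submodule.zero_mem _
    exact Module.Free.of_equiv (LinearEquiv.ofBijective g ⟨hinj, hg⟩)
  obtain ⟨I, hI⟩ : ∃ I : Ideal A, I = Ideal.span
      ((({b.repr (f e) 0, b.repr (f e) 1} : Finset A) : Set A)) := ⟨_, rfl⟩
  have hItop : I ≠ ⊤ := by
    intro h
    apply hm
    have h1 : (1 : A) ∈ I := h ▸ Submodule.mem_top
    rw [hI, Finset.coe_insert, Finset.coe_singleton, Ideal.mem_span_pair] at h1
    obtain ⟨x, y, hxy⟩ := h1
    refine free_of_unimodular f g hex hg e he (x • b.coord 0 + y • b.coord 1) ?_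
    simp only [LinearMap.add_apply, LinearMap.smul_apply, Module.Basis.coord_apply, smul_eq_mul]
    exact hxy
  obtain ⟨Q, hQ⟩ := Ideal.nonempty_minimalPrimes hItop
  haveI hQp : Q.IsPrime := hQ.1.1
  have hIQ : I ≤ Q := hQ.1.2
  have hht : Q.height ≤ 2 := by
    have h2 := Ideal.height_le_card_of_mem_minimalPrimes_span_finset (hI ▸ hQ)
    refine h2.trans ?_
    have : ({b.repr (f e) 0, b.repr (f e) 1} : Finset A).card ≤ 2 := Finset.card_le_two
    exact_mod_cast this
  refine ⟨⟨Q, hQp⟩, ?_, ?_⟩
  · intro hQm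
    have h3 : (maximalIdeal A).height = (3 : ℕ∞) := by
      have := IsLocalRing.maximalIdeal_height_eq_ringKrullDim (R := A)
      rw [hdim] at this
      exact WithBot.coe_injective this
    change Q = maximalIdeal A at hQm
    rw [hQm, h3] at hht
    exact absurd hht (by decide)
  · intro hfree
    apply hfe
    have m0 : b.repr (f e) 0 ∈ Q := hIQ (hI ▸ Ideal.subset_span (by simp))
    have m1 : b.repr (f e) 1 ∈ Q := hIQ (hI ▸ Ideal.subset_span (by simp))
    exact rel_eq_zero_of_free_localized f g hex hg b e he Q m0 m1 hfree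

end Abstract

end Groth.Agent.Helper2.OmegaNotFree

namespace Groth.Agent.Helper2.OmegaNotFree

open TensorProduct

theorem main15100 {V R A : Type*} [CommRing V] [CommRing R] [CommRing A]
    [IsDomain A] [IsNoetherianRing A] [IsLocalRing A]
    [Algebra V R] [Algebra V A] [Algebra R A] [IsScalarTower V R A]
    (u : V)
    (hdimA : ringKrullDim A = 3)
    (hΩA : Module.Free A (Ω[A⁄V])) (hrkA : Module.finrank A (Ω[A⁄V]) = 2)
    (hΩR : Module.Free A (A ⊗[R] Ω[R⁄V])) (hrkR : Module.finrank A (A ⊗[R] Ω[R⁄V]) = 1)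
    (h0 : ∀ P : PrimeSpectrum A, algebraMap V A u ∈ P.asIdeal →
      P.asIdeal ≠ IsLocalRing.maximalIdeal A →
      Module.Free (Localization.AtPrime P.asIdeal)
        (LocalizedModule P.asIdeal.primeCompl (Ω[A⁄R])))
    (hm : ¬ Module.Free A (Ω[A⁄R])) :
    ∃ Q : PrimeSpectrum A, algebraMap V A u ∉ Q.asIdeal ∧
      ¬ Module.Free (Localization.AtPrime Q.asIdeal)
        (LocalizedModule Q.asIdeal.primeCompl (Ω[A⁄R])) := by
  haveI := hΩA
  haveI := hΩR
  haveI : Module.Finite A (Ω[A⁄V]) := Module.finite_of_finrank_pos (by omega)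
  haveI : Module.Finite A (A ⊗[R] Ω[R⁄V]) := Module.finite_of_finrank_pos (by omega)
  obtain ⟨Q, hQm, hQ⟩ := exists_prime_not_free hdimA
    (KaehlerDifferential.mapBaseChange V R A) (KaehlerDifferential.map V R A A)
    (KaehlerDifferential.exact_mapBaseChange_map V R A) (KaehlerDifferential.map_surjective V R A)
    (Module.finBasisOfFinrankEq A _ hrkA) (Module.finBasisOfFinrankEq A _ hrkR) hm
  refine ⟨Q, fun hu => hQ (h0 Q hu hQm), hQ⟩

end Groth.Agent.Helper2.OmegaNotFree
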